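import Groth.Agent.Sga3.HopfFiniteDescent
import Groth.Agent.PropsBasic2.Reduced
import Groth.Agent.PicAux.Sections
import Groth.Agent.LocFree.Rank
import Groth.Agent.EulerDeg.FiniteSupport
import Mathlib.AlgebraicGeometry.ZariskisMainTheorem
import Mathlib.RingTheory.Artinian.Module

/-!
# Reduced finite schemes over an algebraically closed field
-/

set_option autoImplicit false
set_option linter.style.haveILetI false
set_option backward.isDefEq.respectTransparency.types false

universe u

open CategoryTheory CategoryTheory.Limits AlgebraicGeometry TopologicalSpace TensorProduct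

namespace Groth.JumpLines

variable {k : Type u} [Field k] {Y : Scheme.{u}} (f : Y ⟶ Spec (CommRingCat.of k)) [IsProper f]
  [Finite Y]

theorem isFinite_of_finite : IsFinite f := by
  haveI : LocallyQuasiFinite f := .of_finite_preimage_singleton _ fun _ => Set.toFinite _
  exact IsFinite.of_isProper_of_locallyQuasiFinite f

include f in
theorem isAffine_of_finite : IsAffine Y := by
  haveI := isFinite_of_finite f
  exact isAffine_of_isAffineHom f

theorem finite_appTop : f.appTop.hom.Finite := by
  haveI := isFinite_of_finite f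
  exact IsFinite.finite_app (f := f) ⊤ (isAffineOpen_top _)

/-- A reduced finite scheme over an algebraically closed field is smooth of dimension zero. -/
theorem smoothOfRelativeDimension_zero [IsAlgClosed k] [IsReduced Y] :
    SmoothOfRelativeDimension 0 f := by
  haveI := isAffine_of_finite f
  let φ : k →+* Γ(Y, ⊤) := f.appTop.hom.comp (Scheme.ΓSpecIso (CommRingCat.of k)).inv.hom
  have hφ : φ.Finite := (finite_appTop f).comp
    (RingHom.Finite.of_surjective _ (ConcreteCategory.bijective_of_isIso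
      (Scheme.ΓSpecIso (CommRingCat.of k)).inv).2)
  algebraize [φ]
  haveI := Groth.Sga3.HopfFin.etale_of_isReduced_of_isAlgClosed k Γ(Y, ⊤)
  have he : f.appTop.hom.Etale := by
    have h1 : φ.Etale := RingHom.etale_algebraMap.2 inferInstance
    have h2 : f.appTop.hom = φ.comp (Scheme.ΓSpecIso (CommRingCat.of k)).hom.hom := by
      ext x
      exact congrArg f.appTop.hom (congr($((Scheme.ΓSpecIso (CommRingCat.of k)).hom_inv_id) x)).symm
    rw [h2]
    exact RingHom.Etale.respectsIso.2 φ (Scheme.ΓSpecIso (CommRingCat.of k)).commRingCatIsoToRingEquiv h1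
  haveI : Etale f := (HasRingHomProperty.iff_of_isAffine (P := @Etale)).2 he
  infer_instance

include f in
/-- Line bundles on a finite scheme over a field are trivial. -/
theorem nonempty_iso_structure_of_rank_one {M : Y.Modules} (hM : FlatMod.IsFinLocFreeOfRank 1 M) :
    Nonempty (M ≅ Coh.structureModule Y) := by
  haveI := isAffine_of_finite f
  let φ : k →+* Γ(Y, ⊤) := f.appTop.hom.comp (Scheme.ΓSpecIso (CommRingCat.of k)).inv.hom
  have hφ : φ.Finite := (finite_appTop f).comp
    (RingHom.Finite.of_surjective _ (ConcreteCategory.bijective_of_isIso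
      (Scheme.ΓSpecIso (CommRingCat.of k)).inv).2)
  algebraize [φ]
  haveI : IsArtinianRing Γ(Y, ⊤) := IsArtinianRing.of_finite k _
  have hU : IsAffineOpen (⊤ : Y.Opens) := isAffineOpen_top Y
  have hf := Groth.LocFree.isFinLocFree_of_rank hM
  haveI := KTheory.LocFree.isQCoh hf
  obtain ⟨hfin, hproj⟩ := Groth.LocFree.finite_projective_sections hf hU
  haveI := hfin
  haveI := hproj
  obtain ⟨b⟩ := Module.nonempty_basis_of_flat_of_finrank_eq Γ(Y, ⊤) Γ(M, ⊤) 1 fun P => by
    let := Ideal.Quotient.field P.asIdeal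
    let q : PrimeSpectrum (Γ(Y, ⊤) ⧸ P.asIdeal) := ⟨⊥, Ideal.isPrime_bot⟩
    have := Module.rankAtStalk_baseChange (R := Γ(Y, ⊤)) (M := Γ(M, ⊤)) (S := Γ(Y, ⊤) ⧸ P.asIdeal) q
    rw [Module.rankAtStalk_eq_finrank_of_free] at this
    rw [show Module.finrank (Γ(Y, ⊤) ⧸ P.asIdeal) ((Γ(Y, ⊤) ⧸ P.asIdeal) ⊗[Γ(Y, ⊤)] Γ(M, ⊤)) = _
      from this]
    exact Groth.LocFree.rankAtStalk_sections_ofRank hM hU _
  have hb : PicAux.Basis' M ⊤ b := by
    refine KTheory.LocFree.basis'_of_affine hU _ ?_
    rw [show (fun q : Fin 1 → Γ(Y, ⊤) => ∑ i, q i • b i) = b.equivFun.symm from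
      funext fun q => (b.equivFun_symm_apply q).symm]
    exact b.equivFun.symm.bijective
  exact Groth.PicAux.nonempty_iso_structure_iff.2 ⟨b 0, fun V h => by
    have h1 := (hb V h).comp (Equiv.funUnique (Fin 1) Γ(Y, V)).symm.bijective
    simpa [Function.comp_def] using h1⟩

/-- Global functions on a reduced finite scheme over an algebraically closed field. -/
theorem finrank_structure [IsAlgClosed k] [IsReduced Y] [Y.Over (Spec (CommRingCat.of k))]
    (hf : Y ↘ Spec (CommRingCat.of k) = f) :
    Module.finrank k (Coh.HH Y (Coh.structureModule Y) 0) = Nat.card Y := by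
  haveI := isAffine_of_finite f
  let φ : k →+* Γ(Y, ⊤) := f.appTop.hom.comp (Scheme.ΓSpecIso (CommRingCat.of k)).inv.hom
  have hφ : φ.Finite := (finite_appTop f).comp
    (RingHom.Finite.of_surjective _ (ConcreteCategory.bijective_of_isIso
      (Scheme.ΓSpecIso (CommRingCat.of k)).inv).2)
  letI : Algebra k Γ(Y, ⊤) := φ.toAlgebra
  haveI : Module.Finite k Γ(Y, ⊤) := hφ
  haveI : IsArtinianRing Γ(Y, ⊤) := IsArtinianRing.of_finite k _
  letI := Groth.EulerDeg.secModule k (Coh.structureModule Y) ⊤
  let e : Γ(Coh.structureModule Y, (⊤ : Y.Opens)) ≃ₗ[k] Γ(Y, ⊤) :=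
    { toFun := PicAux.toFun
      invFun := fun x => x
      left_inv := fun _ => rfl
      right_inv := fun _ => rfl
      map_add' := fun _ _ => rfl
      map_smul' := fun a x => by
        rw [RingHom.id_apply, EulerDeg.smul_sec, PicAux.toFun_smul]
        refine congrArg (· * _) ?_
        rw [EulerDeg.toSec, hf]
        exact PicAux.resX_self _ _ }
  let ψ : Γ(Y, ⊤) →ₐ[k] ∀ m : MaximalSpectrum Γ(Y, ⊤), Γ(Y, ⊤) ⧸ m.asIdeal :=
    AlgHom.pi fun m => Ideal.Quotient.mkₐ k m.asIdeal
  let E := LinearEquiv.ofBijective ψ.toLinearMap (IsArtinianRing.equivPi Γ(Y, ⊤)).bijective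
  have h1 : ∀ m : MaximalSpectrum Γ(Y, ⊤), Module.finrank k (Γ(Y, ⊤) ⧸ m.asIdeal) = 1 := fun m => by
    letI := Ideal.Quotient.field m.asIdeal
    exact ((AlgEquiv.ofBijective (Algebra.ofId k (Γ(Y, ⊤) ⧸ m.asIdeal))
      IsAlgClosed.algebraMap_bijective_of_isIntegral).toLinearEquiv.finrank_eq).symm.trans
        (Module.finrank_self k)
  letI := Fintype.ofFinite (MaximalSpectrum Γ(Y, ⊤))
  rw [(EulerDeg.h0Equiv k (Coh.structureModule Y)).finrank_eq, e.finrank_eq, E.finrank_eq,
    Module.finrank_pi_fintype]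
  simp only [h1, Finset.sum_const, Finset.card_univ, smul_eq_mul, mul_one, ← Nat.card_eq_fintype_card]
  exact Nat.card_congr (IsArtinianRing.primeSpectrumEquivMaximalSpectrum.symm.trans
    (Y.isoSpec.hom.homeomorph.toEquiv.symm))

include f in
/-- A closed subscheme of a reduced finite scheme is reduced. -/
theorem isReduced_of_closedImmersion [IsReduced Y] {Z : Scheme.{u}} (g : Z ⟶ Y) [IsClosedImmersion g] :
    IsReduced Z := by
  haveI := isAffine_of_finite f
  obtain ⟨hZ, hs⟩ := IsClosedImmersion.isAffine_surjective_of_isAffine g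
  let φ : k →+* Γ(Y, ⊤) := f.appTop.hom.comp (Scheme.ΓSpecIso (CommRingCat.of k)).inv.hom
  have hφ : φ.Finite := (finite_appTop f).comp
    (RingHom.Finite.of_surjective _ (ConcreteCategory.bijective_of_isIso
      (Scheme.ΓSpecIso (CommRingCat.of k)).inv).2)
  algebraize [φ]
  haveI : IsArtinianRing Γ(Y, ⊤) := IsArtinianRing.of_finite k _
  haveI : IsSemisimpleRing Γ(Y, ⊤) := IsArtinianRing.isSemisimpleRing_of_isReduced _
  haveI : IsSemisimpleRing Γ(Z, ⊤) := RingHom.isSemisimpleRing_of_surjective g.appTop.hom hs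
  haveI : _root_.IsReduced Γ(Z, ⊤) := inferInstance
  exact isReduced_of_isAffine_isReduced _

end Groth.JumpLines
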