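import Groth.Agent.JumpLines.FinitePoints
import Groth.Agent.HodgeDivisor.Main
import Groth.Agent.VBCurves.P1Split
import Groth.Agent.Curves1.RR.PointMod
import Groth.Agent.PnCoh.Euler
import Groth.Agent.PnCoh.PicProjSpace

/-!
# The ideal of finitely many reduced points on the projective line
-/

set_option autoImplicit false
set_option linter.style.haveILetI false
set_option backward.isDefEq.respectTransparency.types false

universe u

open CategoryTheory CategoryTheory.Limits AlgebraicGeometry TopologicalSpace

namespace Groth.JumpLines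

variable {k : Type u} [Field k]

local notation "ℙ" => CohB1.ProjSpace 1 k
local notation "O(" a ")" => Twist.twistProjSpace 1 k a

theorem euler_twist_line (d : ℤ) : Curv2.euler k ℙ O(d) = d + 1 := by
  have h1 := Groth.PnCoh.euler_twist k 1 d
  rw [Ring.choose_one_right] at h1
  unfold Curv2.euler
  rw [finsum_eq_sum_of_support_subset (s := Finset.range 2) _ fun i hi => ?_]
  · push_cast at h1
    exact h1
  · simp only [Function.mem_support] at hi
    by_contra h
    simp only [Finset.coe_range, Set.mem_Iio, not_lt] at h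
    refine hi ?_
    rw [Groth.PnCoh.finrank_eq_zero k 1 d i (by omega) (by omega), Nat.cast_zero, mul_zero]

theorem eq_of_twist_iso {a b : ℤ} (e : O(a) ≅ O(b)) : a = b := by
  have h := euler_twist_line (k := k) a
  rw [show Curv2.euler k ℙ O(a) = Curv2.euler k ℙ O(b) from Groth.EulerDeg.euler_congr k e,
    euler_twist_line] at h
  omega

variable [IsAlgClosed k] (K : (CohB1.ProjSpace 1 k).IdealSheafData) [Finite K.subscheme]
  [IsReduced K.subscheme]

/-- The ideal of `a` reduced points on the line is `O(-a)`. -/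
theorem nonempty_idealMod_iso :
    Nonempty (ClSub.idealMod K ≅ O(-(Nat.card K.subscheme : ℤ))) := by
  haveI := VBCurves.P1Split.instIntegral (k := k)
  haveI := VBCurves.P1Split.instProper (k := k)
  have hc := VBCurves.P1Split.isVBCurve (k := k)
  haveI := Groth.EulerDeg.isNoetherian_of_proper k ℙ
  let f := K.subschemeι ≫ CohB1.ProjSpace.toSpec 1 k
  haveI : IsProper (CohB1.ProjSpace.toSpec 1 k) := Groth.Variety2.isProper_projSpace_toSpec 1 k
  haveI : IsProper f := inferInstanceAs (IsProper (_ ≫ _))
  haveI := smoothOfRelativeDimension_zero f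
  -- the support consists of closed points
  have hcl : ∀ y ∈ (K.support : Set ℙ), IsClosed ({y} : Set ℙ) := fun y hy => by
    rw [← Scheme.IdealSheafData.range_subschemeι] at hy
    obtain ⟨z, rfl⟩ := hy
    haveI := isAffine_of_finite f
    have hz : IsClosed ({z} : Set K.subscheme) := by
      refine closure_eq_iff_isClosed.1 (Set.Subset.antisymm (fun w hw => ?_) subset_closure)
      have h2 := Duality.SmoothDual.topologicalKrullDim_le f 0
      rw [Variety2.Dim.dim_eq_iSup_height] at h2
      have h3 : Order.height z ≤ 0 := by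
        exact_mod_cast WithBot.coe_le_coe.1
          ((le_iSup (fun v => ((Order.height v : ℕ∞) : WithBot ℕ∞)) z).trans h2)
      have hmin := Order.height_eq_zero.1 (nonpos_iff_eq_zero.1 h3)
      have hle : w ≤ z := Scheme.le_iff_specializes.2 (specializes_iff_mem_closure.2 hw)
      exact ((Scheme.le_iff_specializes.1 (hmin hle)).antisymm (Scheme.le_iff_specializes.1 hle)).eq
    have := K.subschemeι.isClosedEmbedding.isClosed_iff_image_isClosed.1 hz
    rwa [Set.image_singleton] at this
  have hη : genericPoint ℙ ∉ (K.support : Set ℙ) := fun hm => by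
    refine Groth.Curves1.RR.ne_of_isClosed_of_dim (hcl _ hm) (η := genericPoint ℙ) ?_ rfl
    rw [genericPoint_closure, IsHomeomorph.topologicalKrullDim_eq _ (Homeomorph.Set.univ ℙ).isHomeomorph]
    exact hc.dim
  have hO := Groth.EulerDeg.isInvertible_structureModule ℙ
  have hO1 := Groth.LocFree.isInvertible_iff_ofRank_one.1 hO
  have hm : Mono (ClSub.idealModι K) := inferInstanceAs (Mono (kernel.ι _))
  have hI : Coh.IsCoh (ClSub.idealMod K) :=
    Groth.QCohMod.isCoh_kernel (ClSub.toSubscheme K) (Groth.EulerDeg.isCoh_of_isInvertible hO)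
  have hF := VBCurves.isFinLocFree_of_mono hc.pid (ClSub.idealModι K) hI
    (Groth.LocFree.isFinLocFree_of_rank hO1)
  have hr := VBCurves.isFinLocFreeOfRank_rk hF
  have h1 := Groth.LocFree.finrank_stalk hr (genericPoint ℙ)
  rw [Groth.Curves1.RR.finrank_stalk_idealMod K hη] at h1
  rw [← h1] at hr
  obtain ⟨d, ⟨e⟩⟩ : ∃ d : ℤ, Nonempty (ClSub.idealMod K ≅ O(d)) :=
    Groth.PnCoh.exists_iso_twist_of_isInvertible le_rfl _
      (Groth.LocFree.isInvertible_iff_ofRank_one.2 hr)
  -- the degree
  have hS := Groth.PicAux.shortExact_idealMod K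
  have hQ : Coh.IsCoh (ClSub.quotMod K) := Groth.EulerDeg.isCoh_quotMod K
  have hsup : Groth.EulerDeg.SupportedAtClosed (ClSub.quotMod K) := fun y hy =>
    hcl y (Groth.EulerDeg.support_quotMod_subset K hy)
  have he := Groth.EulerDeg.euler_add hS (Groth.EulerDeg.finCoh k ℙ hI) (Groth.EulerDeg.finCoh k ℙ hQ)
  dsimp only at he
  letI : K.subscheme.Over (Spec (CommRingCat.of k)) := ⟨f⟩
  obtain ⟨p⟩ := HodgeDivisor.nonempty_equiv_push (k := k) K.subschemeι rfl
    (Coh.structureModule K.subscheme) 0
  rw [Groth.EulerDeg.euler_eq_h0 k hsup, show Module.finrank k (Coh.HH ℙ (ClSub.quotMod K) 0) =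
      Nat.card K.subscheme from p.finrank_eq.trans (finrank_structure f rfl),
    show Curv2.euler k ℙ (ClSub.idealMod K) = d + 1 from
      (Groth.EulerDeg.euler_congr k e).trans (euler_twist_line d)] at he
  obtain ⟨z⟩ := Groth.Duality.Pn.nonempty_twist_zero_iso' 1 k
  rw [← show Curv2.euler k ℙ O((0 : ℤ)) = Curv2.euler k ℙ (Coh.structureModule ℙ) from
    Groth.EulerDeg.euler_congr k z, euler_twist_line] at he
  exact ⟨e ≪≫ eqToIso (congrArg (Twist.twistProjSpace 1 k) (by omega))⟩

end Groth.JumpLines
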