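import Groth.Agent.PicAux.Pullback
import Groth.Agent.PicAux.EffCartierLine
import Groth.Agent.Divisors.IdealComap
import Groth.Agent.PnCI.Conormal
import Groth.Agent.OmegaSheaf.IdealMod

/-!
# The pullback of an ideal module surjects onto the inverse image ideal
-/

set_option autoImplicit false
set_option linter.style.haveILetI false
set_option backward.isDefEq.respectTransparency.types false

universe u

open CategoryTheory CategoryTheory.Limits AlgebraicGeometry TopologicalSpace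

namespace Groth.JumpLines

open Groth.PicAux

variable {X Y : Scheme.{u}} (f : X ⟶ Y) (I : Y.IdealSheafData)

/-- `f^*I → O_X`. -/
noncomputable def pullIncl :
    (Scheme.Modules.pullback f).obj (ClSub.idealMod I) ⟶ Coh.structureModule X :=
  (Scheme.Modules.pullback f).map (ClSub.idealModι I) ≫ pullUnit f

theorem pullIncl_pullSec {U : Y.Opens} (m : Γ(ClSub.idealMod I, U)) :
    OmegaSh.fnSect X (f ⁻¹ᵁ U) ((pullIncl f I).app (f ⁻¹ᵁ U) (pullSec f _ m)) =
      f.app U (OmegaSh.idealSect I U m) := by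
  show OmegaSh.fnSect X (f ⁻¹ᵁ U) ((pullUnit f).app (f ⁻¹ᵁ U)
    (((Scheme.Modules.pullback f).map (ClSub.idealModι I)).app (f ⁻¹ᵁ U) (pullSec f _ m))) = _
  rw [pullSec_map]
  exact congr(($(unit_pullUnit f)).app U ((ClSub.idealModι I).app U m))

theorem pullIncl_toSubscheme [QuasiCompact f] :
    pullIncl f I ≫ ClSub.toSubscheme (I.comap f) = 0 := by
  let adj := Scheme.Modules.pullbackPushforwardAdjunction f
  apply (adj.homEquiv _ _).injective
  rw [Adjunction.homEquiv_unit, Adjunction.homEquiv_unit, Functor.map_zero, comp_zero]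
  refine KoszShLib.hom_eq_zero_of_small _ fun x W hxW => ?_
  obtain ⟨_, ⟨V, hV, rfl⟩, hxV, hVW⟩ :=
    Y.isBasis_affineOpens.exists_subset_of_mem_open (show x ∈ (W : Set Y) from hxW) W.2
  refine ⟨V, hxV, hVW, fun m => ?_⟩
  let K := I.comap f
  have hle : I ≤ (K.subschemeι ≫ f).ker := Scheme.IdealSheafData.le_map_iff_comap_le.2 le_rfl
  have h0 : (K.subschemeι ≫ f).app V (OmegaSh.idealSect I V m) = 0 :=
    RingHom.mem_ker.1 ((Scheme.Hom.ker_apply (K.subschemeι ≫ f) ⟨V, hV⟩).le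
      (hle ⟨V, hV⟩ (Groth.OmegaSheaf.idealSect_mem I ⟨V, hV⟩ m)))
  refine Eq.trans ?_ h0
  show _ = K.subschemeι.app (f ⁻¹ᵁ V) (f.app V (OmegaSh.idealSect I V m))
  exact congrArg (fun y => K.subschemeι.app (f ⁻¹ᵁ V) y) (pullIncl_pullSec f I m)

/-- `f^*I → I O_X`. -/
noncomputable def pullIdeal [QuasiCompact f] :
    (Scheme.Modules.pullback f).obj (ClSub.idealMod I) ⟶ ClSub.idealMod (I.comap f) :=
  kernel.lift _ (pullIncl f I) (pullIncl_toSubscheme f I)

theorem idealSect_pullIdeal [QuasiCompact f] {V : X.Opens}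
    (z : Γ((Scheme.Modules.pullback f).obj (ClSub.idealMod I), V)) :
    OmegaSh.idealSect (I.comap f) V ((pullIdeal f I).app V z) =
      OmegaSh.fnSect X V ((pullIncl f I).app V z) := by
  show OmegaSh.fnSect X V ((ClSub.idealModι (I.comap f)).app V ((pullIdeal f I).app V z)) = _
  rw [← KoszShLib.comp_app_apply]
  exact congr(OmegaSh.fnSect X V (($(kernel.lift_ι _ _ (pullIncl_toSubscheme f I))).app V z))

theorem epi_pullIdeal [QuasiCompact f] : Epi (pullIdeal f I) := by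
  refine Groth.OmegaSheaf.epi_of_affine_cover _ fun x => ?_
  obtain ⟨_, ⟨U, hU, rfl⟩, hxU, -⟩ :=
    Y.isBasis_affineOpens.exists_subset_of_mem_open (Set.mem_univ (f x)) isOpen_univ
  obtain ⟨_, ⟨V, hV, rfl⟩, hxV, hVU⟩ :=
    X.isBasis_affineOpens.exists_subset_of_mem_open (show x ∈ ((f ⁻¹ᵁ U : X.Opens) : Set X) from hxU)
      (f ⁻¹ᵁ U).2
  refine ⟨V, hV, hxV, fun z => ?_⟩
  have hz := Groth.OmegaSheaf.idealSect_mem (I.comap f) ⟨V, hV⟩ z
  rw [Divisors.ideal_comap_affine I f ⟨U, hU⟩ ⟨V, hV⟩ hVU] at hz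
  suffices h : ∀ y ∈ (I.ideal ⟨U, hU⟩).map (f.appLE U V hVU).hom, ∃ w,
      OmegaSh.idealSect (I.comap f) V ((pullIdeal f I).app V w) = y by
    obtain ⟨w, hw⟩ := h _ hz
    exact ⟨w, Groth.OmegaSheaf.idealSect_injective _ _ hw⟩
  intro y hy
  induction hy using Submodule.span_induction with
  | mem y hy =>
    obtain ⟨a, ha, rfl⟩ := hy
    obtain ⟨m, rfl⟩ := Groth.OmegaSheaf.exists_idealSect I ⟨U, hU⟩ ha
    refine ⟨res _ hVU (pullSec f _ m), ?_⟩
    rw [idealSect_pullIdeal, app_res]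
    exact congrArg (resX X hVU) (pullIncl_pullSec f I m)
  | zero => exact ⟨0, by rw [map_zero, map_zero]⟩
  | add a b _ _ ha hb =>
    obtain ⟨u, rfl⟩ := ha
    obtain ⟨v, rfl⟩ := hb
    exact ⟨u + v, by rw [map_add, map_add]⟩
  | smul c a _ ha =>
    obtain ⟨u, rfl⟩ := ha
    exact ⟨c • u, by rw [Scheme.Modules.Hom.app_smul, Groth.OmegaSheaf.idealSect_smul, smul_eq_mul]⟩

end Groth.JumpLines
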