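import Groth.Agent.SerreCorr.Bundle
import Groth.Agent.SerreCorr.Det
import Groth.Agent.JumpLines.P1Degree
import Groth.Agent.JumpLines.PullIdeal
import Groth.Agent.PnCI.Top
import Groth.Agent.LocFree.SES
import Groth.Agent.Duality.FundLocal.SmoothImm

/-!
# Rank two bundles on the plane with prescribed jumping lines
-/

set_option autoImplicit false
set_option linter.style.haveILetI false
set_option backward.isDefEq.respectTransparency.types false

universe u

open CategoryTheory CategoryTheory.Limits AlgebraicGeometry TopologicalSpace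

attribute [local instance] HasFiniteBiproducts.of_hasFiniteProducts

namespace Groth.JumpLines

open Groth.LocFree Groth.PicAux

variable {k : Type u} [Field k] [IsAlgClosed k]

local notation "ℙ" => CohB1.ProjSpace 2 k
local notation "O(" a ")" => Twist.twistProjSpace 1 k a

/-- The rank two bundle of a reduced finite subscheme of the plane. -/
theorem exists_planeBundle {Y : Scheme.{u}} (ι : Y ⟶ CohB1.ProjSpace 2 k) [IsClosedImmersion ι]
    [Finite Y] [IsReduced Y] :
    ∃ S : ShortComplex (CohB1.ProjSpace 2 k).Modules, S.ShortExact ∧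
      FlatMod.IsFinLocFreeOfRank 2 S.X₂ ∧
      Nonempty (extPow 2 S.X₂ ≅ Coh.structureModule (CohB1.ProjSpace 2 k)) ∧
      Nonempty (S.X₃ ≅ ClSub.idealMod ι.ker) := by
  haveI := Groth.PnCoh.isLocallyNoetherian_projSpace 2 k
  haveI := Groth.Variety2.isProper_projSpace_toSpec 2 k
  haveI := Groth.Duality.Pn.smooth_toSpec 2 k
  let f := ι ≫ CohB1.ProjSpace.toSpec 2 k
  haveI : IsProper f := inferInstanceAs (IsProper (_ ≫ _))
  haveI := smoothOfRelativeDimension_zero f
  haveI : Smooth f := SmoothOfRelativeDimension.smooth 0 f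
  have hg := Groth.PnEuler.isFinLocFreeOfRank_omega (n := 2) (R := k)
  have hf := Groth.OmegaSheaf.isFinLocFreeOfRank_sheaf f 0
  have hι := Duality.FundLocal.isRegularImmersionOfCodim (CohB1.ProjSpace.toSpec 2 k) f ι 2 0 hg hf rfl
  obtain ⟨hC, -⟩ := Duality.FundLocal.isFinLocFreeOfRank_conormal
    (CohB1.ProjSpace.toSpec 2 k) f ι 2 0 hg hf rfl
  have hC2 : FlatMod.IsFinLocFreeOfRank 1 (extPow 2 (Omega.conormal ι)) :=
    isFinLocFreeOfRank_extPow hC 2
  haveI := KTheory.LocFree.isQCoh (isFinLocFree_of_rank hC)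
  obtain ⟨z⟩ := Groth.Duality.Pn.nonempty_twist_zero_iso' 2 k
  let z' : Twist.twistProjSpace 2 k (-(0 : ℤ)) ≅ Coh.structureModule ℙ :=
    eqToIso (congrArg (Twist.twistProjSpace 2 k) neg_zero) ≪≫ z
  obtain ⟨d⟩ := nonempty_iso_structure_of_rank_one f hC2
  let eL : extPow 2 (Omega.conormal ι) ≅
      (Scheme.Modules.pullback ι).obj (Twist.twistProjSpace 2 k (-(0 : ℤ))) :=
    d ≪≫ (@asIso _ _ _ _ (pullUnit ι) (isIso_pullUnit ι)).symm ≪≫
      (Scheme.Modules.pullback ι).mapIso z'.symm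
  have h2 : Subsingleton (Coh.HH ℙ (Twist.twistProjSpace 2 k (-(0 : ℤ))) 2) :=
    (PnCI.top_iff_zero (n := 2) (k := k) two_pos _).2 (by norm_num)
  obtain ⟨S, hS, ⟨e1⟩, h₂, ⟨e3⟩⟩ :=
    SerreCorr.exists_bundle_of_h2 ι le_rfl hι 0 (isExtPow_extPow 2 _) eL h2
  have hO : PicF.IsInvertible (Coh.structureModule ℙ) := Groth.EulerDeg.isInvertible_structureModule _
  obtain ⟨hr, hd⟩ := SerreCorr.rank_and_det ι hι hO S hS (e1 ≪≫ z') h₂
    (e3 ≪≫ (SecTwist.unitorR _).symm)
  exact ⟨S, hS, hr, hd, ⟨e3⟩⟩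

/-- A bundle of trivial determinant on the line surjecting onto `O(-a)` is `O(a) ⊕ O(-a)`. -/
theorem nonempty_split (a : ℕ) {E : (CohB1.ProjSpace 1 k).Modules}
    (hE : FlatMod.IsFinLocFreeOfRank 2 E)
    (hdet : Nonempty (extPow 2 E ≅ Coh.structureModule (CohB1.ProjSpace 1 k)))
    (q : E ⟶ O(-(a : ℤ))) [Epi q] : Nonempty (E ≅ O((a : ℤ)) ⊞ O(-(a : ℤ))) := by
  haveI := Groth.PnCoh.isLocallyNoetherian_projSpace 1 k
  let S := ShortComplex.mk (kernel.ι q) q (kernel.condition q)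
  have hS : S.ShortExact :=
    { exact := ShortComplex.exact_of_f_is_kernel _ (kernelIsKernel _) }
  have h3 := VBCurves.P1Split.twist_rank (k := k) (-(a : ℤ))
  have hK : FlatMod.IsFinLocFree S.X₁ := KTheory.LocFree.isFinLocFree_of_shortExact_right hS
    (isFinLocFree_of_rank hE) (isFinLocFree_of_rank h3)
  have h1 : FlatMod.IsFinLocFreeOfRank 1 S.X₁ := isFinLocFreeOfRank_iff_finrank.2 ⟨hK, fun x => by
    have h := finrank_stalk_add hS hK (isFinLocFree_of_rank h3) x
    rw [show Module.finrank _ (S.X₂.presheaf.stalk x) = 2 from finrank_stalk hE x,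
      show Module.finrank _ (S.X₃.presheaf.stalk x) = 1 from finrank_stalk h3 x] at h
    omega⟩
  haveI : S.X₁.IsQuasicoherent := KTheory.LocFree.isQCoh hK
  haveI : S.X₂.IsQuasicoherent := KTheory.LocFree.isQCoh (isFinLocFree_of_rank hE)
  haveI : S.X₃.IsQuasicoherent := KTheory.LocFree.isQCoh (isFinLocFree_of_rank h3)
  obtain ⟨ψ, hψ⟩ := SerreCorr.exists_wedge hS h1
  haveI : IsIso ψ := Groth.LocFree.isIso_of_small_affine ψ fun x W hx => by
    obtain ⟨_, ⟨U, hU, rfl⟩, hxU, hUW⟩ :=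
      (CohB1.ProjSpace 1 k).isBasis_affineOpens.exists_subset_of_mem_open
        (show x ∈ (W : Set (CohB1.ProjSpace 1 k)) from hx) W.2
    exact ⟨U, hU, hxU, hUW, hψ U hU (projective_sections (isFinLocFree_of_rank h3) hU)
      (PnHodgeCI.subsingleton_esec_two h3 hU)⟩
  obtain ⟨a1⟩ := KTheory.LambdaVb.nonempty_extPow_one S.X₁
  obtain ⟨a3⟩ := KTheory.LambdaVb.nonempty_extPow_one S.X₃
  obtain ⟨b, ⟨eb⟩⟩ : ∃ b : ℤ, Nonempty (S.X₁ ≅ O(b)) :=
    Groth.PnCoh.exists_iso_twist_of_isInvertible le_rfl _ (isInvertible_iff_ofRank_one.2 h1)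
  obtain ⟨t⟩ := Groth.Duality.Pn.nonempty_twist_tensor 1 k b (-(a : ℤ))
  obtain ⟨z⟩ := Groth.Duality.Pn.nonempty_twist_zero_iso' 1 k
  have hba : b + -(a : ℤ) = 0 := eq_of_twist_iso
    (t.symm ≪≫ PicGrp.tensorModIso (eb.symm ≪≫ a1.symm) a3.symm ≪≫ asIso ψ ≪≫ hdet.some ≪≫ z.symm)
  obtain ⟨s, hs⟩ := VBCurves.P1Split.exists_lift hS eb (e := -(a : ℤ)) (by omega) (𝟙 _)
  let σ := ShortComplex.Splitting.ofExactOfSection S hS.exact s hs hS.mono_f
  exact ⟨σ.isoBinaryBiproduct ≪≫ biprod.mapIso (eb ≪≫ eqToIso (congrArg (Twist.twistProjSpace 1 k)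
    (by omega))) (Iso.refl _)⟩

/-- The splitting type of the bundle on a line. -/
theorem nonempty_restrict {Y : Scheme.{u}} (ι : Y ⟶ CohB1.ProjSpace 2 k) [IsClosedImmersion ι]
    [Finite Y] [IsReduced Y] (S : ShortComplex (CohB1.ProjSpace 2 k).Modules) (hS : S.ShortExact)
    (hr : FlatMod.IsFinLocFreeOfRank 2 S.X₂)
    (hd : Nonempty (extPow 2 S.X₂ ≅ Coh.structureModule (CohB1.ProjSpace 2 k)))
    (e3 : S.X₃ ≅ ClSub.idealMod ι.ker)
    (i : CohB1.ProjSpace 1 k ⟶ CohB1.ProjSpace 2 k) [IsClosedImmersion i] :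
    Nonempty ((Scheme.Modules.pullback i).obj S.X₂ ≅
      O((Nat.card {y : Y // ι y ∈ Set.range i.base} : ℤ)) ⊞
        O(-(Nat.card {y : Y // ι y ∈ Set.range i.base} : ℤ))) := by
  haveI := Groth.Variety2.isProper_projSpace_toSpec 2 k
  let f := ι ≫ CohB1.ProjSpace.toSpec 2 k
  haveI : IsProper f := inferInstanceAs (IsProper (_ ≫ _))
  let K := ι.ker.comap i
  have hle : ι.ker ≤ (K.subschemeι ≫ i).ker := Scheme.IdealSheafData.le_map_iff_comap_le.2 le_rfl
  let g := IsClosedImmersion.lift ι (K.subschemeι ≫ i) hle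
  have hg : g ≫ ι = K.subschemeι ≫ i := IsClosedImmersion.lift_fac _ _ _
  haveI : IsClosedImmersion (g ≫ ι) := by rw [hg]; infer_instance
  haveI : IsClosedImmersion g := IsClosedImmersion.of_comp_isClosedImmersion g ι
  haveI : Finite K.subscheme := Finite.of_injective g g.isClosedEmbedding.injective
  haveI : IsReduced K.subscheme := isReduced_of_closedImmersion f g
  have hpt : ∀ z, ι (g z) = i (K.subschemeι z) := fun z => by
    rw [← Scheme.Hom.comp_apply, hg, Scheme.Hom.comp_apply]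
  have hcard : Nat.card K.subscheme = Nat.card {y : Y // ι y ∈ Set.range i.base} := by
    refine Nat.card_congr (Equiv.ofBijective
      (fun z => (⟨g z, ⟨K.subschemeι z, (hpt z).symm⟩⟩ : {y : Y // ι y ∈ Set.range i.base}))
      ⟨fun z w h => g.isClosedEmbedding.injective (congrArg Subtype.val h), fun ⟨y, t, ht⟩ => ?_⟩)
    have hy : t ∈ (K.support : Set (CohB1.ProjSpace 1 k)) := by
      rw [Scheme.IdealSheafData.support_comap]
      refine (show i t ∈ (ι.ker.support : Set ℙ) from ?_)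
      rw [ι.support_ker]
      exact subset_closure ⟨y, ht.symm⟩
    rw [← Scheme.IdealSheafData.range_subschemeι] at hy
    obtain ⟨z, rfl⟩ := hy
    exact ⟨z, Subtype.ext (ι.isClosedEmbedding.injective ((hpt z).trans ht))⟩
  obtain ⟨eK⟩ := nonempty_idealMod_iso K
  haveI : QuasiCompact i := inferInstance
  haveI := epi_pullIdeal i ι.ker
  haveI := hS.epi_g
  haveI := (Scheme.Modules.pullbackPushforwardAdjunction i).leftAdjoint_preservesColimits
  haveI : Epi ((Scheme.Modules.pullback i).map (S.g ≫ e3.hom)) := inferInstance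
  let q := (Scheme.Modules.pullback i).map (S.g ≫ e3.hom) ≫ pullIdeal i ι.ker ≫
    (eK ≪≫ eqToIso (congrArg (fun a : ℕ => Twist.twistProjSpace 1 k (-(a : ℤ))) hcard)).hom
  haveI : Epi q := inferInstance
  haveI := KTheory.LocFree.isQCoh (isFinLocFree_of_rank hr)
  obtain ⟨ed⟩ := nonempty_iso_extPow (isExtPow_pullback i (isExtPow_extPow 2 S.X₂))
  exact nonempty_split _ (isFinLocFreeOfRank_pullback i hr)
    ⟨ed ≪≫ (Scheme.Modules.pullback i).mapIso hd.some ≪≫
      @asIso _ _ _ _ (pullUnit i) (isIso_pullUnit i)⟩ q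

end Groth.JumpLines
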